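import Cfsg.Agent.H42.K547.EvenFinal
import Cfsg.Agent.H71.QE.Psl3Swap

/-!
# S4547, groups of Lie type of characteristic two: all extension rows (helper42)
-/

set_option autoImplicit false

open Cfsg

namespace Cfsg.Agent.H42.K547.Even

open Cfsg.Agent.H821.K547

universe u

theorem swap3 : Swap3 := fun h4 _ _ hN hs => H71.QE.psl3_swap h4 hN hs

theorem evenSmall : EvenSmall := evenSmall_of swap3

/-- **`ExtRow` for all groups of Lie type of characteristic two** -/
theorem extAll {S : Type u} [Group S] [Finite S] [IsSimpleGroup S] (hS : IsLieTypeChar 2 S) : ExtAll S :=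
  ext_two_of swap3 hS

/-- the field `ext` of `H671.K547.EvenInputs` -/
theorem ext {S : Type u} [Group S] [Finite S] [IsSimpleGroup S] (hS : IsLieTypeChar 2 S) (τ : MulAut S)
    (h2 : TwoPow τ) (ho : ¬ IsInn τ) : ExtRow S τ := extAll hS τ h2 ho

end Cfsg.Agent.H42.K547.Even
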