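import Cfsg.Agent.H967.K547.Special
import Cfsg.Agent.H805.K547.PSU3Red
import Cfsg.Agent.H151.K547.ExtRows
import Cfsg.Agent.H671.K547.Congr

/-!
# S4547, `PSU₃(q)`, `q` even: the special rows (helper42)

`τ` is an automorphism of `PSU₃(q)`, `q = 2 ^ f`, `2 f = 2 ^ b`, whose class in `Out` has order `2 f`: then neither
`GInv3 τ` nor `D3 (AutExt τ)` (`H967.K547.Special.not_special`).
-/

set_option autoImplicit false
set_option linter.unusedSectionVars false

open Cfsg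

namespace Cfsg.Agent.H42.K547.PSU3

open Cfsg.Agent.H601.K4 Cfsg.Agent.H821.K547 Cfsg.Agent.LieRecognition.RankOneAbstract
open Cfsg.Agent.H705.PSU Cfsg.Agent.UThreeGen.MatGroup
open Cfsg.Agent.HKS.EndU (tor tmat tor_val tor_mem act tor_emb ci ci_val wel_tor exists_tor tor_mem_center sne tor_conj)
open Cfsg.Agent.H805.K547.PSU3

universe u

open Matrix

section model

variable {F : Type*} [Field F] [Fintype F] {q : ℕ} {σ : F →+* F} [hσ : Fact (∀ x, σ (σ x) = x)]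
  {M : Type u} [Group M] {π : SUG σ →* M}

/-- the centre of `SU₃(q)` is trivial if `3` does not divide `q + 1` -/
theorem center_eq_one (E : Mod q π) (h3 : Nat.Coprime 3 (q + 1)) {z : SUG σ}
    (hz : z ∈ Subgroup.center (SUG σ)) : z = 1 := by
  obtain ⟨x₀, hx₀⟩ := E.exists_ne
  have h1 : z ∈ borel σ := center_le_borel ⟨x₀, hx₀⟩ hz
  have h2 : (wel σ)⁻¹ * z * wel σ ∈ borel σ := by
    rw [mul_assoc, ← (Subgroup.mem_center_iff.1 hz (wel σ)), inv_mul_cancel_left]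
    exact h1
  obtain ⟨l, rfl⟩ := exists_tor h1 h2
  have h4 := Subgroup.mem_center_iff.1 hz (emb σ x₀)
  rw [tor_emb] at h4
  have h5 : x₀ = act l x₀ := emb_injective (mul_right_cancel h4)
  have ha : x₀.a = (l : F) ^ 2 / σ (l : F) * x₀.a := congrArg HG.a h5
  have hb : x₀.b = (l : F) * σ (l : F) * x₀.b := congrArg HG.b h5
  have hx1 : x₀ ≠ 1 := by
    rintro rfl
    exact hx₀ one_a
  have hb0 := b_ne_zero hx1
  have e1 : (l : F) ^ 2 / σ (l : F) = 1 := mul_right_cancel₀ hx₀ (by rw [one_mul]; exact ha.symm)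
  have e2 : (l : F) * σ (l : F) = 1 := mul_right_cancel₀ hb0 (by rw [one_mul]; exact hb.symm)
  have e3 : (l : F) ^ 2 = σ (l : F) := by
    rwa [div_eq_one_iff_eq (sne l)] at e1
  have h6 : l ^ 3 = 1 := by
    apply Units.ext
    rw [Units.val_pow_eq_pow_val, Units.val_one, pow_succ', e3, e2]
  have h7 : l ^ (q + 1) = 1 := by
    apply Units.ext
    rw [Units.val_pow_eq_pow_val, Units.val_one, pow_succ', ← E.pow, e2]
  have h8 : orderOf l ∣ 1 := by
    rw [← h3.gcd_eq_one]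
    exact Nat.dvd_gcd (orderOf_dvd_of_pow_eq_one h6) (orderOf_dvd_of_pow_eq_one h7)
  rw [orderOf_eq_one_iff.1 (Nat.dvd_one.1 h8), map_one]

theorem pi_inj (E : Mod q π) (h3 : Nat.Coprime 3 (q + 1)) {g h : SUG σ} (e : π g = π h) : g = h := by
  have h1 : π (g * h⁻¹) = 1 := by rw [map_mul, map_inv, e, mul_inv_cancel]
  exact mul_inv_eq_one.1 (center_eq_one E h3 ((E.ker _).1 h1))

/-- the corner entry is multiplicative on the Borel subgroup -/
theorem mul_zero_zero {g h : SUG σ} (hh : h ∈ borel σ) : (g * h).1.1 0 0 = g.1.1 0 0 * h.1.1 0 0 := by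
  rw [mem_borel] at hh
  rw [coe_mul_SUG, Matrix.mul_apply, Fin.sum_univ_three, hh.1, hh.2]
  ring

theorem zero_zero_ne {g : SUG σ} (hg : g ∈ borel σ) : g.1.1 0 0 ≠ 0 := by
  intro h0
  have h1 := mul_zero_zero (g := g⁻¹) hg
  rw [inv_mul_cancel, h0, mul_zero] at h1
  exact one_ne_zero h1

/-- an element of the Borel subgroup fixed by `ρ` modulo conjugation -/
theorem mem_U_of_fix (E : Mod q π) (h3 : Nat.Coprime 3 (q + 1)) {ρ : F ≃+* F} (hρ : ∀ a, ρ a = a → a = 0 ∨ a = 1)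
    {k y : M} (hk : k ∈ (borel σ).map π) (hy : y ∈ (borel σ).map π) (h : k * fld E ρ y * k⁻¹ = y) :
    y ∈ (emb σ).range.map π := by
  obtain ⟨k', hk', rfl⟩ := hk
  obtain ⟨g, hg, rfl⟩ := hy
  rw [fld_apply, ← map_inv, ← map_mul, ← map_mul] at h
  have h1 := pi_inj E h3 h
  have h2 : k' * fldS E.pow ρ g = g * k' := mul_inv_eq_iff_eq_mul.1 h1
  have hg' : fldS E.pow ρ g ∈ borel σ := by
    have hg0 := mem_borel.1 hg
    rw [mem_borel, fldS_val, fldS_val, hg0.1, hg0.2, map_zero]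
    exact ⟨rfl, rfl⟩
  have h4 : (k' * fldS E.pow ρ g).1.1 0 0 = (g * k').1.1 0 0 := by rw [h2]
  rw [mul_zero_zero hg', mul_zero_zero hk', fldS_val, mul_comm (g.1.1 0 0)] at h4
  have h5 := mul_left_cancel₀ (zero_zero_ne hk') h4
  have h6 : g.1.1 0 0 = 1 := (hρ _ h5).resolve_left (zero_zero_ne hg)
  have hg0 := mem_borel.1 hg
  exact Subgroup.mem_map_of_mem _ (mem_range_of_col h6 hg0.1 hg0.2)

/-- a unit of `F` of trace one -/
theorem exists_b (E : Mod q π) : ∃ b : F, b + σ b = 1 := by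
  obtain ⟨x, hx⟩ := H212.U3.Model.exists_a E.card E.pow (σ := σ) 1
  refine ⟨x.b, ?_⟩
  rw [x.h, hx, map_one, mul_one]

/-- linear characters of `HG σ` are trivial on the elements with `a = 0` -/
theorem hom_eq_one [CharP F 2] (E : Mod q π) (L : HG σ →* ℤˣ) {x : HG σ} (hx : x.a = 0) : L x = 1 := by
  obtain ⟨b, hb⟩ := exists_b E
  have hc : σ x.b = x.b := by
    have h1 := x.h
    rw [hx, zero_mul, add_comm] at h1
    exact CharTwo.add_eq_zero.1 h1
  obtain ⟨y, hy⟩ := H212.U3.Model.exists_a E.card E.pow (σ := σ) (x.b * b)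
  obtain ⟨z, hz⟩ := H212.U3.Model.exists_a E.card E.pow (σ := σ) 1
  have e : y * z = x * (z * y) := by
    ext
    · rw [mul_a, mul_a, mul_a, hx, zero_add, add_comm]
    · simp only [mul_b, mul_a, hx, hy, hz, map_mul, hc, map_one, zero_mul, add_zero, mul_one, one_mul]
      have h2 : (2 : F) = 0 := CharTwo.two_eq_zero
      linear_combination x.b * hb - x.b * σ b * h2
  have h1 := congrArg L e
  rw [map_mul, map_mul, map_mul, mul_comm (L z) (L y)] at h1
  exact (mul_eq_right.1 h1.symm)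

/-- the value depends only on `a` -/
theorem hom_eq_of_a [CharP F 2] (E : Mod q π) (L : HG σ →* ℤˣ) {x y : HG σ} (h : x.a = y.a) : L x = L y := by
  have h1 : L (x⁻¹ * y) = 1 := hom_eq_one E L (by rw [mul_a, inv_a, h, neg_add_cancel])
  rw [map_mul, map_inv] at h1
  exact (inv_mul_eq_one.1 h1)

/-- the linear characters of `HG σ` invariant under `a ↦ d * ρ a` -/
theorem hom_unique [CharP F 2] (E : Mod q π) {ρ : F ≃+* F} (hρ : ∀ a, ρ a = a → a = 0 ∨ a = 1) {d : F} (hd : d ≠ 0)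
    {L L' : HG σ →* ℤˣ} (hL : ∀ x y : HG σ, y.a = d * ρ x.a → L y = L x)
    (hL' : ∀ x y : HG σ, y.a = d * ρ x.a → L' y = L' x) (h1 : L ≠ 1) (h1' : L' ≠ 1) : L = L' := by
  classical
  let D : F →+ F := (AddMonoidHom.mulLeft d).comp (ρ : F →+* F).toAddMonoidHom - AddMonoidHom.id F
  have hD : ∀ a, D a = d * ρ a - a := fun _ => rfl
  have hker : Nat.card D.ker ≤ 2 := by
    by_contra hlt
    have hcard : 2 < Nat.card D.ker := by omega
    have : ∃ x y : D.ker, x ≠ 0 ∧ y ≠ 0 ∧ x ≠ y := by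
      have h3 : 2 < Fintype.card D.ker := by rwa [← Nat.card_eq_fintype_card]
      obtain ⟨a, b, c, hab, hac, hbc⟩ := Fintype.two_lt_card_iff.1 h3
      by_cases ha : a = 0
      · exact ⟨b, c, fun h => hab (ha.trans h.symm), fun h => hac (ha.trans h.symm), hbc⟩
      · by_cases hb : b = 0
        · exact ⟨a, c, ha, fun h => hbc (hb.trans h.symm), hac⟩
        · exact ⟨a, b, ha, hb, hab⟩
    obtain ⟨⟨x, hx⟩, ⟨y, hy⟩, hx0, hy0, hxy⟩ := this
    rw [AddMonoidHom.mem_ker, hD, sub_eq_zero] at hx hy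
    have hx0' : x ≠ 0 := fun h => hx0 (Subtype.ext h)
    have hy0' : y ≠ 0 := fun h => hy0 (Subtype.ext h)
    have hρy : ρ y ≠ 0 := (map_ne_zero ρ).2 hy0'
    have h2 : ρ (x / y) = x / y := by
      rw [map_div₀]
      rw [div_eq_div_iff hρy hy0']
      have : d * (ρ x * y) = d * (x * ρ y) := by
        linear_combination y * hx - x * hy
      exact mul_left_cancel₀ hd this
    rcases hρ _ h2 with h3 | h3
    · rcases div_eq_zero_iff.1 h3 with h4 | h4
      · exact hx0' h4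
      · exact hy0' h4
    · exact hxy (Subtype.ext ((div_eq_one_iff_eq hy0').1 h3))
  have hidx : D.range.index ≤ 2 := by
    have h2 : Nat.card F = Nat.card D.range * D.range.index := (AddSubgroup.card_mul_index _).symm
    have h3 : Nat.card F = Nat.card D.ker * D.ker.index := (AddSubgroup.card_mul_index _).symm
    rw [AddSubgroup.index_ker, mul_comm] at h3
    have h4 : 0 < Nat.card D.range := Nat.card_pos
    rw [Nat.eq_of_mul_eq_mul_left h4 (h2.symm.trans h3)]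
    exact hker
  have hone : ∀ {K : HG σ →* ℤˣ}, (∀ x y : HG σ, y.a = d * ρ x.a → K y = K x) → ∀ x : HG σ, x.a ∈ D.range → K x = 1 := by
    rintro K hK x ⟨c, hc⟩
    rw [hD] at hc
    obtain ⟨y, hy⟩ := H212.U3.Model.exists_a E.card E.pow (σ := σ) c
    have h3 : K (x * y) = K y := hK y (x * y) (by rw [mul_a, ← hc, hy, sub_add_cancel])
    rw [map_mul] at h3
    exact mul_eq_right.1 h3
  have hadd : ∀ {a b : F}, a ∉ D.range → b ∉ D.range → a + b ∈ D.range := by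
    intro a b ha hb
    have h2 : D.range.index = 2 := by
      have h3 : D.range.index ≠ 0 := AddSubgroup.index_ne_zero_of_finite
      have h4 : D.range.index ≠ 1 := by
        intro h5
        rw [AddSubgroup.index_eq_one] at h5
        exact ha (h5 ▸ AddSubgroup.mem_top a)
      omega
    exact (AddSubgroup.add_mem_iff_of_index_two h2).2 ⟨fun h => absurd h ha, fun h => absurd h hb⟩
  have hval : ∀ {K : HG σ →* ℤˣ}, (∀ x y : HG σ, y.a = d * ρ x.a → K y = K x) → K ≠ 1 →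
      ∀ x : HG σ, x.a ∉ D.range → K x = -1 := by
    intro K hK hK1 x hx
    have h2 : ∃ x₀, K x₀ ≠ 1 := by
      by_contra hcon
      push Not at hcon
      exact hK1 (MonoidHom.ext hcon)
    obtain ⟨x₀, hx₀⟩ := h2
    have h3 : x₀.a ∉ D.range := fun h => hx₀ (hone hK x₀ h)
    have h4 := hone hK (x * x₀) (by rw [mul_a]; exact hadd hx h3)
    rw [map_mul] at h4
    rcases Int.units_eq_one_or (K x) with h5 | h5
    · rw [h5, one_mul] at h4
      exact absurd h4 hx₀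
    · exact h5
  ext x
  by_cases hx : x.a ∈ D.range
  · rw [hone hL x hx, hone hL' x hx]
  · rw [hval hL h1 x hx, hval hL' h1' x hx]

/-- Borel elements act on the first coordinate by scalars -/
theorem exists_dec {k : SUG σ} (hk : k ∈ borel σ) : ∃ (u : HG σ) (c : Fˣ), k = emb σ u * tor σ c := by
  have h0 := zero_zero_ne hk
  set c : Fˣ := Units.mk0 _ h0 with hc
  have hci : tor σ c⁻¹ ∈ borel σ := tor_mem _
  have h1 : k * tor σ c⁻¹ ∈ borel σ := (borel σ).mul_mem hk hci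
  have h2 : (k * tor σ c⁻¹).1.1 0 0 = 1 := by
    rw [mul_zero_zero hci, tor_val]
    show k.1.1 0 0 * ((c⁻¹ : Fˣ) : F) = 1
    rw [Units.val_inv_eq_inv_val, hc, Units.val_mk0, mul_inv_cancel₀ h0]
  obtain ⟨u, hu⟩ := mem_range_of_col h2 (mem_borel.1 h1).1 (mem_borel.1 h1).2
  refine ⟨u, c, ?_⟩
  rw [hu, mul_assoc, ← map_mul, inv_mul_cancel, map_one, mul_one]

theorem conj_emb {u : HG σ} {c : Fˣ} (x : HG σ) :
    emb σ u * tor σ c * emb σ x * (emb σ u * tor σ c)⁻¹ = emb σ (u * act c x * u⁻¹) := by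
  rw [_root_.mul_inv_rev, mul_assoc (emb σ u), tor_emb, map_mul, map_mul, map_inv]
  group

end model

section generator

/-- a generator of the Galois group has the fixed field `F₂` -/
theorem fix_of_orderOf {F : Type*} [Field F] [Fintype F] [CharP F 2] {ρ : F ≃+* F} (h : Nat.card (F ≃+* F) ≤ orderOf ρ) {a : F}
    (ha : ρ a = a) : a = 0 ∨ a = 1 := by
  have hfin : Finite (F ≃+* F) := Finite.of_injective (fun f : F ≃+* F => (f : F → F)) DFunLike.coe_injective
  have h1 : Nat.card (Subgroup.zpowers ρ) = Nat.card (F ≃+* F) := by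
    rw [Nat.card_zpowers]
    exact le_antisymm (Nat.le_of_dvd Nat.card_pos (orderOf_dvd_natCard ρ)) h
  have h2 : Subgroup.zpowers ρ = ⊤ := Subgroup.eq_top_of_card_eq _ h1
  have h3 : frobeniusEquiv F 2 ∈ Subgroup.zpowers ρ := by rw [h2]; exact Subgroup.mem_top _
  have h4 : ρ ∈ MulAction.stabilizer (F ≃+* F) a := ha
  have h5 : frobeniusEquiv F 2 ∈ MulAction.stabilizer (F ≃+* F) a := (Subgroup.zpowers_le.2 h4) h3
  have h6 : a ^ 2 = a := h5
  have h7 : a * (a - 1) = 0 := by linear_combination h6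
  rcases mul_eq_zero.1 h7 with h8 | h8
  · exact Or.inl h8
  · exact Or.inr (sub_eq_zero.1 h8)

end generator

section main

open CoxeterSystem Cfsg.Agent.ChevalleyStructure.CoxeterGeom Cfsg.Agent.Tits.Roots Cfsg.Agent.Tits.Core
  Cfsg.Agent.Tits.Exchange Cfsg.Agent.Nodes.Reps Cfsg.Agent.Nodes.BNOf Cfsg.Agent.Nodes.StabComb
  Cfsg.Agent.Nodes.Bruhat Cfsg.Agent.Nodes.OppDec Cfsg.Agent.Nodes.LeviDec Cfsg.Agent.H53.HC
  Cfsg.Agent.H246.Dl Cfsg.Agent.KFacts.RgdAut Cfsg.Agent.KFacts.RgdDiag Cfsg.Agent.H307.QE Cfsg.Agent.H967.K4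
  Cfsg.Agent.H967.K547.Special Cfsg.Agent.Omega.ML.Ex.Typ

/-- the order of `ρ` -/
theorem le_orderOf {F : Type} [Field F] [Fintype F] {q : ℕ} {σ : F →+* F} [hσ : Fact (∀ x, σ (σ x) = x)]
    {M : Type u} [Group M] {π : SUG σ →* M} (E : Mod q π) {N : ℕ} {τ x : MulAut M} {g : M} {ρ : F ≃+* F}
    (hx : x * τ * x⁻¹ = MulAut.conj g * fld E ρ) (hs : ∀ j : ℕ, IsInn (τ ^ j) → N ∣ j) : N ≤ orderOf ρ := by
  have hfin : Finite (F ≃+* F) := Finite.of_injective (fun f : F ≃+* F => (f : F → F)) DFunLike.coe_injective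
  refine Nat.le_of_dvd (orderOf_pos ρ) (hs _ ?_)
  obtain ⟨s, hs'⟩ := exists_pow_conj g (fld E ρ) (orderOf ρ)
  rw [← hx, ← map_pow, pow_orderOf_eq_one, map_one, mul_one, conj_pow] at hs'
  refine ⟨x⁻¹ s, fun y => ?_⟩
  have h1 : τ ^ orderOf ρ = x⁻¹ * MulAut.conj s * x := by rw [← hs']; group
  rw [h1, MulAut.mul_apply, MulAut.mul_apply, MulAut.conj_apply, map_mul, map_mul, map_inv, MulAut.inv_apply_self]

theorem not_spec {F : Type} [Field F] [Fintype F] [CharP F 2] {f b : ℕ} (hf : 2 ≤ f) (hb : 2 * f = 2 ^ b)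
    (hF : Fintype.card F = (2 ^ f) ^ 2) [IsSimpleGroup (PSU 3 F (2 ^ f))] {τ : MulAut (PSU 3 F (2 ^ f))}
    (hτ : TwoPow τ) (hs : ∀ j : ℕ, IsInn (τ ^ j) → 2 * f ∣ j) : ¬ GInv3 τ ∧ ¬ D3 (AutExt τ) := by
  have hp : Fact (Nat.Prime 2) := ⟨Nat.prime_two⟩
  have hq2 : 2 < 2 ^ f := by
    calc 2 < 2 ^ 2 := by norm_num
      _ ≤ 2 ^ f := Nat.pow_le_pow_right (by norm_num) hf
  have hq1 : 1 < 2 ^ f := by omega
  obtain ⟨σ, hσ, π, E⟩ := exists_mod F hF hq1
  have hfin : Finite (PSU 3 F (2 ^ f)) := Finite.of_surjective π E.surj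
  obtain ⟨x, g', ρ, hx⟩ := exists_red E hF hq2 hτ
  -- `3` does not divide `q + 1`
  have h3 : Nat.Coprime 3 (2 ^ f + 1) := by
    obtain ⟨c, rfl⟩ : ∃ c, b = c + 2 := by
      refine ⟨b - 2, ?_⟩
      have : 2 ≤ b := by
        by_contra hlt
        have h1 : b ≤ 1 := by omega
        have h2 : 2 ^ b ≤ 2 ^ 1 := Nat.pow_le_pow_right (by norm_num) h1
        omega
      omega
    have h1 : f = 2 * 2 ^ c := by
      rw [pow_add] at hb
      omega
    rw [h1, pow_mul, Nat.Prime.coprime_iff_not_dvd Nat.prime_three]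
    intro h
    have h2 : (2 ^ 2) ^ 2 ^ c ≡ 1 ^ 2 ^ c [MOD 3] := Nat.ModEq.pow _ rfl
    rw [one_pow] at h2
    have h4 := h2.add_right 1
    have h5 := (Nat.modEq_zero_iff_dvd.2 h).symm.trans h4
    exact absurd h5 (by decide)
  have hcard : Nat.card (F ≃+* F) = 2 * f :=
    Cfsg.Agent.Lib.FieldAutCard.card_ringAut (p := 2) (by omega) (by rw [hF, ← pow_mul, mul_comm])
  have hρ : ∀ a, ρ a = a → a = 0 ∨ a = 1 := fun a ha =>
    fix_of_orderOf (by rw [hcard]; exact le_orderOf E hx hs) ha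
  -- the root group datum
  obtain ⟨m, hm, hR⟩ := typ_PSU (p := 2) hF (N := 3) le_rfl
  obtain rfl : m = 1 := by omega
  obtain ⟨A, h, T, n, X, hW, R, hX⟩ := hR
  have : Finite (CoxeterMatrix.B 1).Group := hW
  have hG := H967.K4.gg_of_g1 (T := T) hX
  obtain ⟨g, σ', hN⟩ := exists_nrm R hG hτ
  set β := MulAut.conj g * τ with hβ
  set U := RGD.Sup X (RGD.Pos (CoxeterMatrix.B 1).toCoxeterSystem h) with hU
  -- conjugation of `U` onto the model
  obtain ⟨P₀, hP₀⟩ := E.exists_syl (r := 2) hq1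
  let SU : Sylow 2 (PSU 3 F (2 ^ f)) := R.isPGroup_Upos.toSylow (H151.K547.index_U' R hG)
  have hSU : (SU : Subgroup (PSU 3 F (2 ^ f))) = U := rfl
  obtain ⟨t₀, ht₀⟩ := MulAction.exists_smul_eq (PSU 3 F (2 ^ f)) (x • SU) P₀
  set φ : MulAut (PSU 3 F (2 ^ f)) := MulAut.conj t₀ * x with hφ
  have hφU : ∀ u, φ u ∈ (emb σ).range.map π ↔ u ∈ U := by
    intro u
    rw [← hP₀, ← ht₀, Sylow.coe_subgroup_smul, Subgroup.mem_pointwise_smul_iff_inv_smul_mem, Sylow.pointwise_smul_def,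
      Subgroup.mem_pointwise_smul_iff_inv_smul_mem, hSU]
    have e : x⁻¹ • (MulAut.conj t₀)⁻¹ • φ u = u := by
      show x⁻¹ ((MulAut.conj t₀)⁻¹ ((MulAut.conj t₀ * x) u)) = u
      rw [MulAut.mul_apply, MulAut.inv_apply_self, MulAut.inv_apply_self]
    exact Iff.of_eq (congrArg (· ∈ U) e)
  set k := t₀ * x g * g' * (fld E ρ t₀)⁻¹ with hk
  have hφβ : ∀ y, φ (β y) = k * fld E ρ (φ y) * k⁻¹ := by
    intro y
    have h1 : x (τ y) = g' * fld E ρ (x y) * g'⁻¹ := by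
      have h2 : (x * τ * x⁻¹) (x y) = (MulAut.conj g' * fld E ρ) (x y) := by rw [hx]
      rwa [MulAut.mul_apply, MulAut.mul_apply, MulAut.inv_apply_self, MulAut.mul_apply, MulAut.conj_apply] at h2
    rw [hφ, hβ, hk]
    simp only [MulAut.mul_apply, MulAut.conj_apply, map_mul, map_inv, h1]
    group
  have hkB : k ∈ (borel σ).map π := by
    rw [← E.data.normalizer_eq (E.unip_ne hq1), Subgroup.mem_normalizer_iff]
    intro u'
    obtain ⟨y, hy⟩ : ∃ y, fld E ρ (φ y) = u' := ⟨φ⁻¹ ((fld E ρ)⁻¹ u'), by rw [MulAut.apply_inv_self, MulAut.apply_inv_self]⟩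
    rw [← hy, ← hφβ, fld_mem_U_iff, hφU, hφU]
    exact (hN.fixU y).symm
  -- not inner
  have ho : ¬ IsInn β := by
    rw [H967.K547.Special.isInn_conj]
    intro h1
    have h2 := hs 1 (by rwa [pow_one])
    have := Nat.le_of_dvd one_pos h2
    omega
  have hna : ¬ IsMulCommutative (PSU 3 F (2 ^ f)) := by
    intro hc
    obtain ⟨y, hy⟩ := exists_ne (1 : PSU 3 F (2 ^ f))
    exact hy (center_triv E hq1 y fun z => hc.1.1 y z)
  have key := not_special (R := R) hG hna hN ho (fun i j => ⟨0, Subsingleton.elim _ _⟩) ?_ ?_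
  · rw [hβ, autExt_conj] at key
    refine ⟨fun h1 => key.1 ?_, key.2⟩
    refine gInv3_conj g⁻¹ ?_
    rwa [← mul_assoc, ← map_mul, inv_mul_cancel, map_one, one_mul]
  · -- no fixed elements in the torus
    intro t ht hfix
    have h1 : k * fld E ρ (φ t) * k⁻¹ = φ t := by rw [← hφβ, hfix]
    have h2 : φ t ∈ (borel σ).map π := by
      rw [← E.data.normalizer_eq (E.unip_ne hq1), Subgroup.mem_normalizer_iff]
      intro u'
      obtain ⟨y, rfl⟩ : ∃ y, φ y = u' := ⟨φ⁻¹ u', MulAut.apply_inv_self _ _ _⟩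
      rw [← map_inv, ← map_mul, ← map_mul, hφU, hφU]
      exact Subgroup.mem_normalizer_iff.1 (R.T_le_normalizer_U ht) y
    have h4 := (hφU t).1 (mem_U_of_fix E h3 hρ hkB h2 h1)
    have h5 : t ∈ U ⊓ T := ⟨h4, ht⟩
    rwa [hU, U_inf_T R, Subgroup.mem_bot] at h5
  · -- linear characters
    obtain ⟨k', hk', hkk⟩ := hkB
    obtain ⟨u₀, c, rfl⟩ := exists_dec hk'
    have hmem : ∀ y : HG σ, φ⁻¹ (π (emb σ y)) ∈ U := by
      intro y
      rw [← hφU, MulAut.apply_inv_self]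
      exact Subgroup.mem_map_of_mem _ ⟨y, rfl⟩
    let ψ : HG σ →* U := (φ⁻¹.toMonoidHom.comp (π.comp (emb σ))).codRestrict U hmem
    have hψ : Function.Surjective ψ := by
      rintro ⟨u, hu⟩
      obtain ⟨_, ⟨y, rfl⟩, hy⟩ := (hφU u).2 hu
      refine ⟨y, Subtype.ext ?_⟩
      show φ⁻¹ (π (emb σ y)) = u
      rw [hy, MulAut.inv_apply_self]
    have hd : (c : F) ^ 2 / σ (c : F) ≠ 0 := div_ne_zero (pow_ne_zero 2 c.ne_zero) (sne c)
    have hinv : ∀ l : U →* ℤˣ, (∀ (u : U) (hu : β u ∈ U), l ⟨β u, hu⟩ = l u) →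
        ∀ y z : HG σ, z.a = (c : F) ^ 2 / σ (c : F) * ρ y.a → (l.comp ψ) z = (l.comp ψ) y := by
      intro l hl y z hz
      have h1 : β (ψ y) = ψ (u₀ * act c (mapH E.pow ρ y) * u₀⁻¹) := by
        apply φ.injective
        rw [hφβ]
        show k * fld E ρ (φ (φ⁻¹ (π (emb σ y)))) * k⁻¹ = φ (φ⁻¹ (π (emb σ (u₀ * act c (mapH E.pow ρ y) * u₀⁻¹))))
        rw [MulAut.apply_inv_self, MulAut.apply_inv_self, ← conj_emb, ← hkk, fld_emb, ← map_inv, ← map_mul, ← map_mul]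
      have h2 := hl (ψ y) ((hN.fixU _).2 (ψ y).2)
      have h4 : (⟨β (ψ y), (hN.fixU _).2 (ψ y).2⟩ : U) = ψ (u₀ * act c (mapH E.pow ρ y) * u₀⁻¹) := Subtype.ext h1
      rw [h4] at h2
      show l (ψ z) = l (ψ y)
      rw [← h2]
      refine hom_eq_of_a E (l.comp ψ) ?_
      rw [hz, mul_a, mul_a, inv_a]
      show _ = u₀.a + (c : F) ^ 2 / σ (c : F) * ρ y.a + -u₀.a
      ring
    intro l l' hl hl' h1 h1'
    have h5 : l.comp ψ = l'.comp ψ := by
      refine hom_unique E hρ hd (hinv l hl) (hinv l' hl') (fun h => h1 ?_) fun h => h1' ?_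
      · exact (MonoidHom.cancel_right hψ).1 (h.trans (MonoidHom.one_comp ψ).symm)
      · exact (MonoidHom.cancel_right hψ).1 (h.trans (MonoidHom.one_comp ψ).symm)
    exact (MonoidHom.cancel_right hψ).1 h5

/-- **The special rows of `PSU₃(q)`, `q` even.** -/
theorem special {S : Type u} [Group S] [Finite S] [IsSimpleGroup S] {F : Type} [Field F] [Fintype F] {f : ℕ}
    (hf : 2 ≤ f) (hF : Fintype.card F = (2 ^ f) ^ 2) (e : S ≃* PSU 3 F (2 ^ f)) {τ : MulAut S} (hτ : TwoPow τ)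
    (hs : H151.K547.Spec τ (2 * f)) : ¬ GInv3 τ ∧ ¬ D3 (AutExt τ) := by
  have hch : CharP F 2 := H967.K4.charP_two_of_card (a := f * 2) (by rw [Nat.card_eq_fintype_card, hF, ← pow_mul])
  have : Nontrivial (PSU 3 F (2 ^ f)) := e.symm.toEquiv.nontrivial
  have : IsSimpleGroup (PSU 3 F (2 ^ f)) := IsSimpleGroup.isSimpleGroup_of_surjective e.toMonoidHom e.surjective
  obtain ⟨⟨b, hb⟩, hs⟩ := hs
  have h1 := not_spec hf hb hF (H671.K547.twoPow_congr e hτ) (fun j hj => hs j (by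
    rw [← H671.K547.isInn_congr_iff e, map_pow]
    exact hj))
  refine ⟨fun h => h1.1 ((H671.K547.gInv3_congr_iff e).2 h), fun h => h1.2 ((H671.K547.d3_autExt_congr_iff e τ).2 h)⟩

theorem extRow_special {S : Type u} [Group S] [Finite S] [IsSimpleGroup S] {F : Type} [Field F] [Fintype F] {f : ℕ}
    (hf : 2 ≤ f) (hF : Fintype.card F = (2 ^ f) ^ 2) (e : S ≃* PSU 3 F (2 ^ f)) {τ : MulAut S} (hτ : TwoPow τ)
    (hs : H151.K547.Spec τ (2 * f)) : ExtRow S τ :=
  ⟨fun h => absurd h (special hf hF e hτ hs).1, fun h => absurd h (special hf hF e hτ hs).2⟩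

end main

end Cfsg.Agent.H42.K547.PSU3
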