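import Cfsg.Agent.H42.K547.EvenAsm
import Cfsg.Agent.H699.K547.AltRow
import Cfsg.Agent.S0255
import Cfsg.Agent.S0256
import Cfsg.Agent.S2126
import Cfsg.Agent.S2128

/-!
# S4547, groups of Lie type of characteristic two: the easy fields of `EvenSmall` (helper42)

`sz`, `ree` (no outer automorphisms of 2-power order), `psl42` (`A₈`), `psl32_of` (from `PSL₂(7)`).
-/

set_option autoImplicit false

open Cfsg

namespace Cfsg.Agent.H42.K547.Even

open Cfsg.Agent.H821.K547 Cfsg.Agent.H671.K547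

universe u v

/-- If the outer automorphism group has odd order, then all automorphisms of 2-power order modulo inner ones are
inner (copy of `H839.K547.isInn_of_odd_out`). -/
theorem inn_of_odd_out {S : Type u} [Group S] {T : Type v} [Group T] (e : S ≃* T) (hodd : Odd (Nat.card (Cfsg.Out T)))
    {τ : MulAut S} (hτ : TwoPow τ) : IsInn τ := by
  rw [← isInn_congr_iff e]
  obtain ⟨k, s, hs⟩ := twoPow_congr e hτ
  set τ' : MulAut T := MulAut.congr e τ
  have h1 : τ' ^ 2 ^ k ∈ Inn T := by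
    refine ⟨s, ?_⟩
    ext x
    exact (hs x).symm
  have h2 : (QuotientGroup.mk' (Inn T) τ') ^ 2 ^ k = 1 := by
    rw [← map_pow]
    exact (QuotientGroup.eq_one_iff _).2 h1
  have h3 : (QuotientGroup.mk' (Inn T) τ') = 1 := by
    rw [← orderOf_eq_one_iff]
    have h4 := orderOf_dvd_of_pow_eq_one h2
    have h5 : orderOf (QuotientGroup.mk' (Inn T) τ') ∣ Nat.card (Cfsg.Out T) := orderOf_dvd_natCard _
    have h6 : Nat.Coprime (2 ^ k) (Nat.card (Cfsg.Out T)) := Nat.Coprime.pow_left k (Nat.coprime_two_left.2 hodd)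
    exact Nat.dvd_one.1 (h6.gcd_eq_one ▸ Nat.dvd_gcd h4 h5)
  obtain ⟨t, ht⟩ := (QuotientGroup.eq_one_iff _).1 h3
  exact ⟨t, fun x => (DFunLike.congr_fun ht x).symm⟩

/-- the Suzuki groups -/
theorem sz {S : Type u} [Group S] (h : Lie.IsoSuzuki S) : GE S := by
  obtain ⟨F, _, _, m, hm, hF, ⟨e⟩⟩ := h
  intro τ h2 ho
  refine absurd (inn_of_odd_out e ?_ h2) ho
  rw [S2126.result hm hF]
  exact odd_two_mul_add_one m

/-- the large Ree groups -/
theorem ree {S : Type u} [Group S] (h : Lie.Iso2F4 S) : GE S := by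
  obtain ⟨K, _, _, m, hm, hK, ⟨e⟩⟩ := h
  intro τ h2 ho
  refine absurd (inn_of_odd_out e ?_ h2) ho
  rw [S2128.result hm hK]
  exact odd_two_mul_add_one m

/-- `PSL₄(2)` -/
theorem psl42 {F : Type} [Field F] [Fintype F] (hF : Fintype.card F = 2) :
    GE (Matrix.ProjectiveSpecialLinearGroup (Fin 4) F) := by
  have : Finite (Matrix.ProjectiveSpecialLinearGroup (Fin 4) F) := Quotient.finite _
  obtain ⟨e⟩ := S0256.result hF
  have h : ExtAll (alternatingGroup (Fin 8)) := (H699.K547.row_alternating (n := 8) (by norm_num)).ext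
  exact h.ge.congr e

/-- `PSL₃(2)`, from the row of `PSL₂(7)` -/
theorem psl32_of (h : ExtAll (Matrix.ProjectiveSpecialLinearGroup (Fin 2) (ZMod 7)))
    {F : Type} [Field F] [Fintype F] (hF : Fintype.card F = 2) :
    GE (Matrix.ProjectiveSpecialLinearGroup (Fin 3) F) := by
  have : Finite (Matrix.ProjectiveSpecialLinearGroup (Fin 3) F) := Quotient.finite _
  have : Fact (Nat.Prime 7) := ⟨by norm_num⟩
  obtain ⟨e⟩ := S0255.result (F := ZMod 7) (K := F) (ZMod.card 7) hF
  exact h.ge.congr e.symm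

end Cfsg.Agent.H42.K547.Even
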