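import Cfsg.Agent.H42.K547.EvenPlug2
import Cfsg.Agent.H42.K547.PSU3Spec
import Cfsg.Agent.H805.K547.PSU3Row
import Cfsg.Agent.H511.K547.SpRow
import Cfsg.Agent.H122.K547.Psu
import Cfsg.Agent.H845.K547F.Plug
import Cfsg.Agent.H984.K547.Psl32

/-!
# S4547, groups of Lie type of characteristic two: all rows but the swap of `PSL₃(q)` (helper42)

* `d3Even` : the `D3` halves (helper151) and the special rows (helper269, helper511, helper42, helper984);
* `evenSmall_of`, `ext_two_of` : everything, given `Swap3`.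
-/

set_option autoImplicit false

open Cfsg

namespace Cfsg.Agent.H42.K547.Even

open CoxeterSystem Cfsg.Agent.ChevalleyStructure.CoxeterGeom Cfsg.Agent.Tits.Roots Cfsg.Agent.Tits.Core
  Cfsg.Agent.Nodes.BNOf Cfsg.Agent.Nodes.Bruhat Cfsg.Agent.H821.K547 Cfsg.Agent.H307.QE Cfsg.Agent.H671.K547
open Cfsg.Agent.LieRecognition.BNCox (cA)

universe u v

theorem stSpec : H805.K547.PSU3.StSpec := by
  intro F _ _ f hf hF hs τ hτ _ hsp
  have : Finite (PSU 3 F (2 ^ f)) := Quotient.finite _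
  exact H42.K547.PSU3.extRow_special hf hF (MulEquiv.refl _) hτ hsp

/-- `PSL₃(2)` -/
theorem ext_psl32 {F : Type} [Field F] [Fintype F] (hF : Fintype.card F = 2) :
    ExtAll (Matrix.ProjectiveSpecialLinearGroup (Fin 3) F) := by
  have : Finite (Matrix.ProjectiveSpecialLinearGroup (Fin 3) F) := Quotient.finite _
  have : Fact (Nat.Prime 7) := ⟨by norm_num⟩
  obtain ⟨e⟩ := S0255.result (F := ZMod 7) (K := F) (ZMod.card 7) hF
  intro τ h2 ho
  exact extRow_congr e.symm (H984.K547.Psl32.ext_seven _ (twoPow_congr _ h2) fun hi => ho ((isInn_congr_iff _).1 hi))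

/-- **the `D3` halves and the special rows** -/
theorem d3Even : D3Even.{u} := by
  intro S _ _ _ hS τ h2 ho
  rcases H151.K547.d3_ext_two hS h2 ho with h | h
  · exact Or.inl h
  right
  rcases h with ⟨F, _, _, f, hf, hF, ⟨e⟩, -⟩ | ⟨F, _, _, f, hf, hF, ⟨e⟩, hs⟩ | ⟨F, _, _, f, hf, hF, ⟨e⟩, -⟩ |
    ⟨F, _, _, hF, ⟨e⟩⟩
  · have : CharP F 2 := H967.K4.charP_two_of_card (Nat.card_eq_fintype_card.trans hF)
    have h4 : 4 ≤ Fintype.card F := by
      rw [hF]
      calc 4 = 2 ^ 2 := by norm_num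
        _ ≤ 2 ^ f := Nat.pow_le_pow_right (by norm_num) hf
    exact extRow_congr e (H269.K547.PslE.extAll h4 (twoPow_congr _ h2) fun hi => ho ((isInn_congr_iff _).1 hi))
  · exact H42.K547.PSU3.extRow_special hf hF e h2 hs
  · have : CharP F 2 := H967.K4.charP_two_of_card (Nat.card_eq_fintype_card.trans hF)
    have h4 : 4 ≤ Fintype.card F := by
      rw [hF]
      calc 4 = 2 ^ 2 := by norm_num
        _ ≤ 2 ^ f := Nat.pow_le_pow_right (by norm_num) hf
    exact extRow_congr e (H511.K547.ext_psp4 h4 _ (twoPow_congr _ h2) fun hi => ho ((isInn_congr_iff _).1 hi))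
  · exact extRow_congr e (ext_psl32 hF _ (twoPow_congr _ h2) fun hi => ho ((isInn_congr_iff _).1 hi))

/-- the swap of `PSL₃(q)`, `q ≥ 4` -/
def Swap3 : Prop :=
  ∀ {F : Type} [Field F] [Fintype F] [CharP F 2], 4 ≤ Fintype.card F →
    ∀ {β : MulAut (Matrix.ProjectiveSpecialLinearGroup (Fin 3) F)} {σ : Equiv.Perm (Fin 2)},
      Nrm (rA 2 F) β σ → σ ≠ 1 → GInv3 β

theorem evenSmall_of (h3 : Swap3) : EvenSmall where
  psl2 := psl2
  psl_swap := psl_swap_of h3
  psl32 := H984.K547.Psl32.psl32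
  psl42 := psl42
  psp4 h4 _ := H511.K547.ge_psp4 h4
  psu3 hF hq hn := have := hn.simple; H805.K547.PSU3.ge_psu3 stSpec hF hq
  psu4 hF _ := GE.of_gInv3 fun _ h2 ho => (H122.K547.psu4 hF h2 ho).1
  psu5 hF _ := GE.of_gInv3 fun _ h2 ho => (H122.K547.psu5 hF h2 ho).1
  g2 := g2
  d4 := d4
  f4_swap := H845.K547F.f4_swap
  sz := sz
  ree := ree

/-- **all groups of Lie type of characteristic two**, given the swap of `PSL₃(q)` -/
theorem ext_two_of (h3 : Swap3) {S : Type u} [Group S] [Finite S] [IsSimpleGroup S] (hS : IsLieTypeChar 2 S) :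
    ExtAll S := ext_two edgeE edgeE (evenSmall_of h3) d3Even hS

end Cfsg.Agent.H42.K547.Even
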