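import Cfsg.Agent.H42.K547.EvenPlug
import Cfsg.Agent.H967.K547.LemmaC
import Cfsg.Agent.H307.QE.Engine
import Cfsg.Agent.H269.K547.PslES
import Cfsg.Agent.H680.K547.PslGraph
import Cfsg.Agent.H839.K547.SLTwo
import Cfsg.Agent.H433.K547.GRows

/-!
# S4547, groups of Lie type of characteristic two: the landed inputs (helper42)

`edgeE` (helper307, helper967), `psl2` (helper269), `psl_swap_of` (helper680, helper839; `PSL₃(q)` as hypothesis),
`g2`, `d4` (helper433).
-/

set_option autoImplicit false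

open Cfsg

namespace Cfsg.Agent.H42.K547.Even

open CoxeterSystem Cfsg.Agent.ChevalleyStructure.CoxeterGeom Cfsg.Agent.Tits.Roots Cfsg.Agent.Tits.Core
  Cfsg.Agent.Nodes.BNOf Cfsg.Agent.Nodes.Bruhat Cfsg.Agent.H821.K547 Cfsg.Agent.H307.QE Cfsg.Agent.H671.K547
open Cfsg.Agent.LieRecognition.BNCox (cA)

universe u v

/-- **Theorem E** -/
theorem edgeE : EdgeE.{u} := by
  intro S _ _ l M _ A h T n X R hG hT β σ hN i j hij hi hj
  have hK : σ '' {i, j} = {i, j} := by rw [Set.image_pair, hi, hj]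
  have hne : i ≠ j := by
    rintro rfl
    rw [M.diagonal] at hij
    omega
  exact gInv3_edge R hG hT hN hne hi hK (H967.K547.LemmaC.ocs_pair R hG hN hij hi hj hK)

theorem psl2 {F : Type} [Field F] [Fintype F] [CharP F 2] (hq : 4 ≤ Fintype.card F) :
    GE (Matrix.ProjectiveSpecialLinearGroup (Fin 2) F) :=
  fun _ h1 h2 => Or.inr (H269.K547.PslE.extAll hq h1 h2)

/-- the swaps, given `PSL₃(q)` -/
theorem psl_swap_of
    (h3 : ∀ {F : Type} [Field F] [Fintype F] [CharP F 2], 4 ≤ Fintype.card F →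
      ∀ {β : MulAut (Matrix.ProjectiveSpecialLinearGroup (Fin 3) F)} {σ : Equiv.Perm (Fin 2)},
        Nrm (rA 2 F) β σ → σ ≠ 1 → GInv3 β)
    {F : Type} [Field F] [Fintype F] [CharP F 2] {n : ℕ} (hn : 2 ≤ n) (h4 : n ≤ 3 → 4 ≤ Fintype.card F)
    {β : MulAut (Matrix.ProjectiveSpecialLinearGroup (Fin (n + 1)) F)} {σ : Equiv.Perm (Fin n)}
    (hN : Nrm (rA n F) β σ) (hσ : σ ≠ 1) : GInv3 β := by
  obtain rfl | hn3 : n = 2 ∨ 3 ≤ n := by omega
  · exact h3 (h4 (by norm_num)) hN hσ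
  · rcases Nat.lt_or_ge (Fintype.card F) 4 with hF | hF
    · have h2 : Nat.card F = 2 := by
        rw [Nat.card_eq_fintype_card]
        obtain ⟨m, hm, hm'⟩ := FiniteField.card F 2
        have h5 := m.pos
        have h1 : (m : ℕ) < 2 := by
          by_contra hlt
          have h2 : 2 ^ 2 ≤ 2 ^ (m : ℕ) := Nat.pow_le_pow_right (by norm_num) (by omega)
          omega
        have h6 : (m : ℕ) = 1 := by omega
        rw [hm', h6]
        norm_num
      exact H839.K547.psl_swap_two h2 hn3 hN hσ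
    · exact H680.K547.PslGraph.gInv3_nrm hn3 hF β hN.pow

theorem g2 {F : Type} [Field F] [Fintype F] [CharP F 2] (hF : 4 ≤ Fintype.card F)
    (h : Nice ↥(Lie.chevG2.group F)) : GE ↥(Lie.chevG2.group F) :=
  GE.of_gInv3 fun _ h1 h2 => H433.K547.model_G2 (by omega) h.twoC h1 h2

theorem d4 {K : Type} [Field K] [Fintype K] [CharP K 2] {q : ℕ} (hq : IsPrimePow q) (hK : Fintype.card K = q ^ 3)
    (h : Nice ↥(Lie.twistedD4 K q)) : GE ↥(Lie.twistedD4 K q) :=
  GE.of_gInv3 fun _ h1 h2 => H433.K547.model_3D4 hq hK h.twoC h1 h2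

end Cfsg.Agent.H42.K547.Even
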