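import Cfsg.Agent.KFacts.Ru.InvC
import Cfsg.Agent.CharactersDeep.LinearExt

/-!
# Counting in the quadratic form of the Rudvalis configuration (S4547, row Ru)

`mW w c d` : the number of `x` with `b w x = c`, `q x = d`. The vectors `w` with `q w = 0`, `mW w 1 6 = mW w 1 7 = 6`
are eight explicit vectors, with sum `code⁻¹ 249`; `mW (code⁻¹ 3) 2 5 = mW (code⁻¹ 3) 5 3 = 6`, and the only `r` in the
group of order 8 which preserves these two values is the identity.
-/

set_option autoImplicit false

namespace Cfsg.Agent.H42.K547.Ru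

open Cfsg.Agent.RuB Cfsg.Agent.Ru127.Inst Cfsg.Agent.RuB.GLThree Cfsg.Agent.RuB.NormQ

/-- counting on codes -/
def mN (w c d : ℕ) : ℕ := ((List.range 256).filter fun j => (bN w j == c) && (qN j == d)).length

/-- counting -/
noncomputable def mW (w : W8) (c d : K8) : ℕ := Nat.card {x : W8 // b8 w x = c ∧ q8 x = d}

theorem mW_eq (w : W8) (c d : K8) : mW w c d = mN (code w) c.val.val d.val.val := by
  classical
  have e : {x : W8 // b8 w x = c ∧ q8 x = d} ≃
      {j // j ∈ ((List.range 256).filter fun j => bN (code w) j == c.val.val && qN j == d.val.val).toFinset} := by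
    refine Equiv.ofBijective (fun x => ⟨code x.1, ?_⟩) ⟨?_, ?_⟩
    · rw [List.mem_toFinset, List.mem_filter, List.mem_range]
      refine ⟨code_lt _, ?_⟩
      rw [← code_b, ← code_q, x.2.1, x.2.2]
      simp
    · intro x y h
      exact Subtype.ext (code_inj (congrArg Subtype.val h))
    · rintro ⟨j, hj⟩
      rw [List.mem_toFinset, List.mem_filter, List.mem_range] at hj
      obtain ⟨hj1, hj2⟩ := hj
      have hcd : code (decode j) = j := code_decode ⟨j, hj1⟩
      rw [Bool.and_eq_true, beq_iff_eq, beq_iff_eq] at hj2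
      refine ⟨⟨decode j, ?_, ?_⟩, Subtype.ext hcd⟩
      · apply K8_val_inj
        rw [code_b, hcd]
        exact hj2.1
      · apply K8_val_inj
        rw [code_q, hcd]
        exact hj2.2
  rw [mW, Nat.card_congr e, Nat.card_eq_fintype_card, Fintype.card_coe,
    List.toFinset_card_of_nodup (List.nodup_range.filter _), mN]

/-! ### the kernel checks -/

def L8 : List ℕ := [3, 43, 82, 135, 153, 191, 215, 245]

def chkS : Bool := (List.range 256).all fun n => !(qN n == 0) || !(mN n 1 6 == 6) || !(mN n 1 7 == 6) || L8.contains n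

theorem chkS_true : chkS = true := by decide +kernel

theorem mN_three : mN 3 1 6 = 6 ∧ mN 3 1 7 = 6 ∧ mN 3 2 5 = 6 ∧ mN 3 5 3 = 6 := by decide +kernel

/-- the codes of the group of order 8 -/
def DL : List ℕ := [273, 337, 281, 345, 161, 225, 169, 233]

theorem mem_DL : ((List.range 512).all fun p => !(good p) || !(ap p 1 == 1) || !((ap p 6 == 6) || (ap p 6 == 7)) ||
    DL.contains p) = true := by decide +kernel

theorem DL_good : (DL.all fun p => good p && decide (p < 512) && (ap p 1 == 1) && ((ap p 6 == 6) || (ap p 6 == 7))) = true := by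
  decide +kernel

theorem chkD : (DL.all fun p => (p == 273) || !(mN 3 (ap p 2) (ap p 5) == 6) || !(mN 3 (ap p 5) (ap p 3) == 6)) = true := by
  decide +kernel

/-- the two homomorphisms of the group of order 8 -/
def fa (p : ℕ) : ZMod 2 := ((ap p 6 ^^^ 6 : ℕ) : ZMod 2)

def fb (p : ℕ) : ZMod 2 := (((ap p 2 ^^^ 2) / 2 : ℕ) : ZMod 2)

theorem fab_mul : ∀ p ∈ DL, ∀ q ∈ DL, fa (cp p q) = fa p + fa q ∧ fb (cp p q) = fb p + fb q := by decide +kernel

theorem fab_surj : ∀ i j : ZMod 2, ∃ p ∈ DL, fa p = i ∧ fb p = j := by decide +kernel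

/-- the eight vectors -/
theorem mem_S {w : W8} (hq : q8 w = 0) (h6 : mW w 1 ⟨6⟩ = 6) (h7 : mW w 1 ⟨7⟩ = 6) : w ∈ L8.map decode := by
  have h := chkS_true
  rw [chkS, List.all_eq_true] at h
  have h1 := h (code w) (List.mem_range.2 (code_lt w))
  have hq' : qN (code w) = 0 := by rw [← code_q, hq]; rfl
  rw [mW_eq] at h6 h7
  have e1 : (1 : K8).val.val = 1 := by decide +kernel
  rw [e1] at h6 h7
  have h6' : mN (code w) 1 6 = 6 := h6
  have h7' : mN (code w) 1 7 = 6 := h7
  rw [hq', h6', h7'] at h1
  have h2 : L8.contains (code w) = true := by simpa using h1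
  rw [List.contains_iff_mem] at h2
  refine List.mem_map.2 ⟨_, h2, ?_⟩
  apply code_inj
  exact code_decode ⟨code w, code_lt w⟩

theorem sum_S : ((L8.map decode).toFinset.sum fun w => w.1.1) = 1 := by decide +kernel

theorem card_S : (L8.map decode).toFinset.card = 8 := by decide +kernel

/-- the vector `(1, 1), 0, 0` -/
def w3 : W8 := ((1, 1), 0, 0)

theorem code_w3 : code w3 = 3 := by decide +kernel

theorem q_w3 : q8 w3 = 0 := by decide +kernel

theorem mW_w3 (c d : K8) : mW w3 c d = mN 3 c.val.val d.val.val := by rw [mW_eq, code_w3]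

end Cfsg.Agent.H42.K547.Ru
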