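import Cfsg.Agent.H42.K547.RuA
import Cfsg.Agent.H821.K547.Defs

/-!
# The Sylow 2-subgroups of the Rudvalis group need three generators (S4547, row Ru)

`P` = the elements of `N(Z)` fixing `z 1` and `{z 6, z 7}`; `P / Q` has order 8 and two homomorphisms to `C₂`; the third
is the transfer to `P` of the homomorphism `x ↦ (π x).1.1` of `Q`.
-/

set_option autoImplicit false

namespace Cfsg.Agent.H42.K547.Ru

open Cfsg.Agent.RuB Cfsg.Agent.RuB.Core Cfsg.Agent.Ru127.Inst Cfsg.Agent.RuB.GLThree Cfsg.Agent.RuB.NormQ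
open Cfsg.Agent.RuB.NormZ
open Cfsg.Agent.Ru127.Form (nor mem_nor)

variable {G : Type*} [Group G] {C : Core G}

/-! ### the action on `Q / Z` -/

section act

variable (K : Coord C)

/-- representatives of `Q / Z` -/
noncomputable def rep (w : W8) : G := (K.surj w).choose

theorem rep_mem (w : W8) : rep K w ∈ C.QQ := (K.surj w).choose_spec.1
theorem rep_pi (w : W8) : K.π (rep K w) = w := (K.surj w).choose_spec.2

noncomputable def act (g : G) (w : W8) : W8 := K.π (g * rep K w * g⁻¹)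

theorem act_eq (hC : ∀ g, (∀ b, g * C.z b = C.z b * g) → g ∈ C.QQ) {g : G} {r : K8 → K8} (hg : Ind C g r) {x : G}
    (hx : x ∈ C.QQ) : K.π (g * x * g⁻¹) = act K g (K.π x) := by
  obtain ⟨e, he⟩ := K.eq_mul_z hx (rep_mem K (K.π x)) (rep_pi K _).symm
  have h1 : g * x * g⁻¹ = (g * rep K (K.π x) * g⁻¹) * C.z (r e) := by
    rw [← hg e]
    calc g * x * g⁻¹ = g * (rep K (K.π x) * C.z e) * g⁻¹ := by rw [← he]
      _ = _ := by group
  rw [h1, K.mul _ ((nor_QQ hC hg _).1 (rep_mem K _)) _ (z_mem_QQ _), K.z, add_zero]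
  rfl

theorem act_mul (hC : ∀ g, (∀ b, g * C.z b = C.z b * g) → g ∈ C.QQ) {g h : G} {r s : K8 → K8} (hg : Ind C g r)
    (hh : Ind C h s) (w : W8) : act K (g * h) w = act K g (act K h w) := by
  have h1 : act K (g * h) w = K.π (g * (h * rep K w * h⁻¹) * g⁻¹) := by
    unfold act
    congr 1
    group
  rw [h1, act_eq K hC hg ((nor_QQ hC hh _).1 (rep_mem K _))]
  rfl

theorem act_one (w : W8) : act K 1 w = w := by
  unfold act
  rw [one_mul, inv_one, mul_one, rep_pi]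

theorem q_act (hν : K.ν = ⟨5⟩) (hμ : K.μ = ⟨7⟩) (hC : ∀ g, (∀ b, g * C.z b = C.z b * g) → g ∈ C.QQ) {g : G}
    {r : K8 → K8} (hg : Ind C g r) (w : W8) : q8 (act K g w) = r (q8 w) := by
  have h1 := K.sq _ (rep_mem K w)
  have h2 := K.sq _ ((nor_QQ hC hg _).1 (rep_mem K w))
  rw [hν, hμ, Local.qf_eq] at h1 h2
  rw [rep_pi] at h1
  apply C.z_inj
  rw [← hg, ← h1]
  have h3 : C.z (q8 (act K g w)) = (g * rep K w * g⁻¹) * (g * rep K w * g⁻¹) := h2.symm
  rw [h3]
  group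

theorem b_act (hμ : K.μ = ⟨7⟩) (hC : ∀ g, (∀ b, g * C.z b = C.z b * g) → g ∈ C.QQ) {g : G}
    {r : K8 → K8} (hg : Ind C g r) (w w' : W8) : b8 (act K g w) (act K g w') = r (b8 w w') := by
  have h := form_conj K hg (rep_mem K w) (rep_mem K w') ((nor_QQ hC hg _).1 (rep_mem K w))
    ((nor_QQ hC hg _).1 (rep_mem K w'))
  rw [hμ, Local.bf_eq, Local.bf_eq, rep_pi, rep_pi] at h
  exact h

theorem mW_act (hν : K.ν = ⟨5⟩) (hμ : K.μ = ⟨7⟩) (hC : ∀ g, (∀ b, g * C.z b = C.z b * g) → g ∈ C.QQ) {g : G}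
    {r : K8 → K8} (hg : Ind C g r) (w : W8) (c d : K8) : mW (act K g w) (r c) (r d) = mW w c d := by
  have hinj : Function.Injective r := by
    intro a b hab
    have h1 : r (a + b) = 0 := by rw [hg.add, hab, K8.add_self]
    exact K8.add_eq_zero (hg.zero h1)
  obtain ⟨s, hs⟩ := exists_ind (C := C) (inv_mem (mem_nor_of_ind hg))
  have e1 : ∀ w, act K g⁻¹ (act K g w) = w := by
    intro w
    rw [← act_mul K hC hs hg, inv_mul_cancel, act_one]
  have e2 : ∀ w, act K g (act K g⁻¹ w) = w := by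
    intro w
    rw [← act_mul K hC hg hs, mul_inv_cancel, act_one]
  symm
  refine Nat.card_congr (Equiv.ofBijective (fun x => ⟨act K g x.1, ?_, ?_⟩) ⟨?_, ?_⟩)
  · rw [b_act K hμ hC hg, x.2.1]
  · rw [q_act K hν hμ hC hg, x.2.2]
  · intro x y h
    apply Subtype.ext
    rw [← e1 x.1, ← e1 y.1]
    exact congrArg (fun t => act K g⁻¹ t.1) h
  · rintro ⟨y, hy1, hy2⟩
    refine ⟨⟨act K g⁻¹ y, ?_, ?_⟩, Subtype.ext (e2 y)⟩
    · apply hinj
      rw [← b_act K hμ hC hg, e2, hy1]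
    · apply hinj
      rw [← q_act K hν hμ hC hg, e2, hy2]

end act

/-! ### the Sylow 2-subgroup -/

/-- the induced maps -/
def InD (r : K8 → K8) : Prop := r 1 = 1 ∧ (r ⟨6⟩ = ⟨6⟩ ∨ r ⟨6⟩ = ⟨7⟩)

theorem seven : (⟨7⟩ : K8) = ⟨6⟩ + 1 := by decide +kernel
theorem six : (⟨6⟩ : K8) = ⟨7⟩ + 1 := by decide +kernel

theorem InD.seven {r : K8 → K8} (h : InD r) (hr : Add r) :
    (r ⟨6⟩ = ⟨6⟩ ∧ r ⟨7⟩ = ⟨7⟩) ∨ (r ⟨6⟩ = ⟨7⟩ ∧ r ⟨7⟩ = ⟨6⟩) := by
  have h7 : r ⟨7⟩ = r ⟨6⟩ + 1 := by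
    have := hr ⟨6⟩ 1
    rw [← Ru.seven, h.1] at this
    exact this
  rcases h.2 with h6 | h6
  · left
    exact ⟨h6, by rw [h7, h6, ← Ru.seven]⟩
  · right
    exact ⟨h6, by rw [h7, h6, ← six]⟩

variable (C) in
/-- the Sylow 2-subgroup -/
def PP : Subgroup G where
  carrier := {g | ∃ r, Ind C g r ∧ InD r}
  one_mem' := ⟨id, ind_one_iff.2 (fun b => by rw [one_mul, mul_one]), rfl, Or.inl rfl⟩
  mul_mem' := by
    rintro g h ⟨r, hr, hD⟩ ⟨s, hs, hE⟩
    refine ⟨r ∘ s, hr.comp hs, ?_, ?_⟩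
    · show r (s 1) = 1
      rw [hE.1, hD.1]
    · show r (s ⟨6⟩) = _ ∨ r (s ⟨6⟩) = _
      rcases hE.seven hs.add with h1 | h1 <;> rcases hD.seven hr.add with h2 | h2
      · rw [h1.1]; exact Or.inl h2.1
      · rw [h1.1]; exact Or.inr h2.1
      · rw [h1.1]; exact Or.inr h2.2
      · rw [h1.1]; exact Or.inl h2.2
  inv_mem' := by
    rintro g ⟨r, hr, hD⟩
    obtain ⟨s, hs⟩ := exists_ind (C := C) (inv_mem (mem_nor_of_ind hr))
    have hinj : Function.Injective r := by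
      intro a b hab
      have h1 : r (a + b) = 0 := by rw [hr.add, hab, K8.add_self]
      exact K8.add_eq_zero (hr.zero h1)
    have hrs : ∀ x, r (s x) = x := by
      intro x
      have h1 := hr.comp hs
      rw [mul_inv_cancel] at h1
      have h2 : Ind C (1 : G) id := ind_one_iff.2 (fun b => by rw [one_mul, mul_one])
      exact congrFun (h1.unique h2) x
    refine ⟨s, hs, hinj ?_, ?_⟩
    · rw [hrs, hD.1]
    · rcases hD.seven hr.add with h2 | h2
      · left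
        apply hinj
        rw [hrs, h2.1]
      · right
        apply hinj
        rw [hrs, h2.2]

theorem mem_PP {g : G} : g ∈ PP C ↔ ∃ r, Ind C g r ∧ InD r := Iff.rfl

theorem QQ_le : C.QQ ≤ PP C := fun _ hx => ⟨id, ind_one_iff.2 (fun b => zcomm hx b), rfl, Or.inl rfl⟩

theorem ind_of_mem_PP {g : G} (hg : g ∈ PP C) {r : K8 → K8} (hr : Ind C g r) : InD r := by
  obtain ⟨s, hs, hD⟩ := hg
  rwa [hr.unique hs]

theorem val_six : (⟨6⟩ : K8).val.val = 6 := rfl
theorem val_one : (1 : K8).val.val = 1 := by decide +kernel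

theorem cod_mem {g : G} {r : K8 → K8} (hr : Ind C g r) (hD : InD r) : cod r ∈ DL := by
  have h := mem_DL
  rw [List.all_eq_true] at h
  have h1 := h (cod r) (List.mem_range.2 (cod_lt r))
  have hg : good (cod r) = true := good_cod hr.add (fun x hx => hr.zero hx)
  have e1 : ap (cod r) 1 = 1 := by
    have := ap_cod hr.add 1
    rw [hD.1, val_one] at this
    exact this.symm
  have e6 : ap (cod r) 6 = 6 ∨ ap (cod r) 6 = 7 := by
    have := ap_cod hr.add ⟨6⟩
    rcases hD.2 with h6 | h6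
    · left
      rw [h6] at this
      exact this.symm
    · right
      rw [h6] at this
      exact this.symm
  have h2 : DL.contains (cod r) = true := by
    rcases e6 with e6 | e6
    · rw [hg, e1, e6] at h1
      simpa using h1
    · rw [hg, e1, e6] at h1
      simpa using h1
  rwa [List.contains_iff_mem] at h2

theorem inD_of_cod {r : K8 → K8} (hr : Add r) (h : cod r ∈ DL) : InD r := by
  have h1 := DL_good
  rw [List.all_eq_true] at h1
  have h2 := h1 _ h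
  simp only [Bool.and_eq_true, Bool.or_eq_true, beq_iff_eq, decide_eq_true_eq] at h2
  obtain ⟨⟨⟨-, -⟩, h3⟩, h4⟩ := h2
  have e1 := ap_cod hr 1
  have e6 := ap_cod hr ⟨6⟩
  rw [val_one, h3] at e1
  rw [val_six] at e6
  refine ⟨val_inj (by rw [e1, val_one]), ?_⟩
  rcases h4 with h4 | h4
  · exact Or.inl (val_inj (by rw [e6, h4]; rfl))
  · exact Or.inr (val_inj (by rw [e6, h4]; rfl))

/-- all codes occur -/
theorem exists_code (K : Coord C) (hμ : K.μ ≠ 0) (hC : ∀ g, (∀ b, g * C.z b = C.z b * g) → g ∈ C.QQ)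
    {g0 : G} (hg0 : g0 ∈ nor (Zs C)) (ht : ∃ x ∈ C.TT, g0 * x * g0⁻¹ ∉ C.TT) :
    ∀ p, p < 512 → good p = true → ∃ g, ∃ r, Ind C g r ∧ cod r = p := by
  obtain ⟨r0, hr0⟩ := exists_ind hg0
  refine all_of (S := fun p => ∃ g, ∃ r, Ind C g r ∧ cod r = p) ?_ ?_ (cod_lt r0) ⟨g0, r0, hr0, rfl⟩
    (good_cod hr0.add (fun x hx => hr0.zero hx)) (not_semi K hμ hr0 (nor_QQ hC hr0) ht)
  · rintro _ _ ⟨g, r, hg, rfl⟩ ⟨h, s, hh, rfl⟩
    exact ⟨g * h, r ∘ s, hg.comp hh, cod_comp hg.add⟩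
  · intro m hm
    obtain ⟨c, hc, rfl⟩ := mem_ms m hm
    let k : K8ˣ := Units.mk0 (c ^ 2) (pow_ne_zero _ hc)
    have hk : (k : K8) ^ 4 = c := by
      show (c ^ 2) ^ 4 = c
      rw [← pow_mul]; exact K8.pow_eight c
    refine ⟨C.dk k, _, ind_dk k, ?_⟩
    rw [hk]

theorem DL_nodup : DL.Nodup := by decide

theorem card_PP (K : Coord C) (hμ : K.μ ≠ 0) (hC : ∀ g, (∀ b, g * C.z b = C.z b * g) → g ∈ C.QQ)
    {g0 : G} (hg0 : g0 ∈ nor (Zs C)) (ht : ∃ x ∈ C.TT, g0 * x * g0⁻¹ ∉ C.TT) : Nat.card (PP C) = 2 ^ 14 := by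
  have hS : ∀ p ∈ DL, ∃ g, ∃ r, Ind C g r ∧ cod r = p := by
    intro p hp
    have h1 := DL_good
    rw [List.all_eq_true] at h1
    have h2 := h1 _ hp
    simp only [Bool.and_eq_true, Bool.or_eq_true, beq_iff_eq, decide_eq_true_eq] at h2
    exact exists_code K hμ hC hg0 ht p h2.1.1.2 h2.1.1.1
  choose! s rr hs hcod using hS
  have e : ({p // p ∈ DL.toFinset} × C.QQ) ≃ PP C := by
    have hp : ∀ p : {p // p ∈ DL.toFinset}, p.1 ∈ DL := fun p => List.mem_toFinset.1 p.2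
    have hQn : ∀ x ∈ C.QQ, Ind C x id := fun x hx => ind_one_iff.2 (fun b => zcomm hx b)
    refine Equiv.ofBijective (fun p => ⟨s p.1.1 * p.2.1, _, (hs _ (hp p.1)).comp (hQn _ p.2.2), by
      rw [Function.comp_id]
      exact inD_of_cod (hs _ (hp p.1)).add (by rw [hcod _ (hp p.1)]; exact hp p.1)⟩) ⟨?_, ?_⟩
    · rintro ⟨p, x⟩ ⟨p', x'⟩ h0
      have h : s p.1 * (x : G) = s p'.1 * (x' : G) := congrArg Subtype.val h0
      have h1 := (hs _ (hp p)).comp (hQn _ x.2)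
      have h2 := (hs _ (hp p')).comp (hQn _ x'.2)
      rw [h] at h1
      have h3 := h1.unique h2
      rw [Function.comp_id, Function.comp_id] at h3
      have h4 : p = p' := by
        apply Subtype.ext
        rw [← hcod _ (hp p), ← hcod _ (hp p'), h3]
      subst h4
      have h5 := mul_left_cancel h
      have h6 : x = x' := Subtype.ext h5
      rw [h6]
    · rintro ⟨g, hg⟩
      obtain ⟨r1, hr1, hD1⟩ := hg
      have hgood : cod r1 ∈ DL := cod_mem hr1 hD1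
      have h1 := hs _ hgood
      have h2 : rr (cod r1) = r1 := cod_inj h1.add hr1.add (hcod _ hgood)
      rw [h2] at h1
      have h3 : (s (cod r1))⁻¹ * g ∈ C.QQ := by
        apply hC
        intro b
        have e1 := h1 b
        have e2 := hr1 b
        rw [← e1] at e2
        calc (s (cod r1))⁻¹ * g * C.z b = (s (cod r1))⁻¹ * (g * C.z b * g⁻¹) * g := by group
          _ = (s (cod r1))⁻¹ * (s (cod r1) * C.z b * (s (cod r1))⁻¹) * g := by rw [e2]
          _ = _ := by group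
      refine ⟨(⟨cod r1, List.mem_toFinset.2 hgood⟩, ⟨_, h3⟩), ?_⟩
      apply Subtype.ext
      show s (cod r1) * ((s (cod r1))⁻¹ * g) = g
      group
  rw [← Nat.card_congr e, Nat.card_prod, card_QQ K, Nat.card_eq_fintype_card, Fintype.card_coe,
    List.toFinset_card_of_nodup DL_nodup]
  norm_num [DL]

end Cfsg.Agent.H42.K547.Ru
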