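import Cfsg.Agent.H42.K547.Ru
import Cfsg.Agent.H536.K4.RuGood

/-!
# S4547, row Ru, complete
-/

set_option autoImplicit false

namespace Cfsg.Agent.H42.K547.Ru

open Cfsg.Agent.H821.K547

universe u

variable {S : Type u} [Group S]

/-- **row Ru** -/
theorem row (h : Cfsg.Spor.IsoRu S) : Row S :=
  row_of h (Cfsg.Agent.H536.K4.RuGood.good5 h)

end Cfsg.Agent.H42.K547.Ru
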